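import Mathlib
import Cfsg.Agent.Lib.SolutionCount

/-!
A certified search for the numbers of elements of each order, given the set of those numbers.
-/

set_option autoImplicit false

namespace CfsgLib.SameOrderCounts

/-- The sum of the values at divisors of `m`. -/
def sumDiv (a : List (ℕ × ℕ)) (m : ℕ) : ℕ := ((a.filter fun e => m % e.1 == 0).map Prod.snd).sum

/-- Depth first search through the candidate element orders. An entry carries an order, its totient and its
number of proper divisors. -/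
def run (vals : List ℕ) (leaf : List (ℕ × ℕ) → Bool) : List (ℕ × ℕ × ℕ) → List (ℕ × ℕ) → Bool
  | [], a => leaf a
  | (m, t, c) :: L, a => run vals leaf L a &&
      (if a.countP (fun e => m % e.1 == 0) == c then
        vals.all fun v => if v % t == 0 && (sumDiv a m + v) % m == 0 then run vals leaf L ((m, v) :: a) else true
      else true)

/-- The entries are correct relative to the orders already processed. -/
def wf : List ℕ → List (ℕ × ℕ × ℕ) → Bool
  | _, [] => true
  | P, (m, t, c) :: L => decide ((P.filter fun d => m % d == 0).toFinset = Nat.properDivisors m) &&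
      decide (Nat.totient m = t) && decide (m.properDivisors.card = c) && !P.contains m && wf (m :: P) L

/-- The facts on `f m`, the number of elements of order `m`. -/
structure Facts (vals : List ℕ) (f : ℕ → ℕ) : Prop where
  val : ∀ m, f m ≠ 0 → f m ∈ vals
  tot : ∀ m, f m ≠ 0 → Nat.totient m ∣ f m
  closed : ∀ m d, f m ≠ 0 → d ∣ m → f d ≠ 0
  frob : ∀ m, f m ≠ 0 → m ∣ ∑ d ∈ m.divisors, f d
  ne_zero : f 0 = 0

variable {vals : List ℕ} {f : ℕ → ℕ}

/-- The table of the nonzero values on a list. -/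
def table (f : ℕ → ℕ) (P : List ℕ) : List (ℕ × ℕ) := (P.filter fun d => f d != 0).map fun d => (d, f d)

theorem table_filter (P : List ℕ) (m : ℕ) :
    (table f P).filter (fun e => m % e.1 == 0) = table f (P.filter fun d => m % d == 0) := by
  simp [table, List.filter_map, List.filter_filter, Function.comp_def, Bool.and_comm]

theorem sum_table : ∀ P : List ℕ, P.Nodup → ((table f P).map Prod.snd).sum = ∑ d ∈ P.toFinset, f d
  | [], _ => by simp [table]
  | d :: P, h => by
    rw [List.nodup_cons] at h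
    rw [List.toFinset_cons, Finset.sum_insert (by simpa using h.1), ← sum_table P h.2]
    by_cases hd : f d = 0 <;> simp [table, hd]

/-- The search reaches the actual table. -/
theorem run_sound (hf : Facts vals f) {leaf : List (ℕ × ℕ) → Bool} :
    ∀ (L : List (ℕ × ℕ × ℕ)) (P : List ℕ), P.Nodup → wf P L = true → run vals leaf L (table f P) = true →
      ∃ P' : List ℕ, P'.Nodup ∧ P'.toFinset = P.toFinset ∪ (L.map Prod.fst).toFinset ∧ leaf (table f P') = true := by
  intro L
  induction L with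
  | nil => exact fun P hP _ h => ⟨P, hP, by simp, h⟩
  | cons e L ih =>
    obtain ⟨m, t, c⟩ := e
    intro P hP hwf h
    simp only [wf, Bool.and_eq_true, decide_eq_true_eq, Bool.not_eq_true', List.contains_eq_mem, decide_eq_false_iff_not] at hwf
    obtain ⟨⟨⟨⟨hdiv, ht⟩, hc⟩, hm⟩, hwf⟩ := hwf
    rw [run, Bool.and_eq_true] at h
    have hP' : (m :: P).Nodup := List.nodup_cons.mpr ⟨hm, hP⟩
    have key : run vals leaf L (table f (m :: P)) = true := by
      by_cases hfm : f m = 0
      · have : table f (m :: P) = table f P := by simp [table, hfm]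
        rw [this]; exact h.1
      have htab : table f (m :: P) = (m, f m) :: table f P := by simp [table, hfm]
      have hm0 : m ≠ 0 := fun e => hfm (e ▸ hf.ne_zero)
      have hQn : (P.filter fun d => m % d == 0).Nodup := hP.filter _
      have hQall : ∀ d ∈ P.filter (fun d => m % d == 0), f d ≠ 0 := fun d hd => by
        rw [← List.mem_toFinset, hdiv, Nat.mem_properDivisors] at hd
        exact hf.closed m d hfm hd.1
      have hcount : (table f P).countP (fun e => m % e.1 == 0) = c := by
        rw [List.countP_eq_length_filter, table_filter, table, List.length_map,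
          List.filter_eq_self.mpr (fun d hd => by simpa using hQall d hd),
          ← List.toFinset_card_of_nodup hQn, hdiv, hc]
      have hsum : sumDiv (table f P) m = ∑ d ∈ m.properDivisors, f d := by
        rw [sumDiv, table_filter, sum_table _ hQn, hdiv]
      have h2 := h.2
      rw [hcount, beq_self_eq_true, if_pos rfl, List.all_eq_true] at h2
      have h3 := h2 (f m) (hf.val m hfm)
      rw [if_pos] at h3
      · rw [htab]; exact h3
      · have e : ∑ d ∈ m.properDivisors, f d + f m = ∑ d ∈ m.divisors, f d := by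
          rw [← Nat.insert_self_properDivisors hm0, Finset.sum_insert Nat.self_notMem_properDivisors, add_comm]
        rw [Bool.and_eq_true, beq_iff_eq, beq_iff_eq, hsum, e]
        exact ⟨Nat.mod_eq_zero_of_dvd (ht ▸ hf.tot m hfm), Nat.mod_eq_zero_of_dvd (hf.frob m hfm)⟩
    obtain ⟨P', h1, h2, h3⟩ := ih (m :: P) hP' hwf key
    refine ⟨P', h1, ?_, h3⟩
    rw [h2]
    ext d
    simp

/-- Every order is a candidate. -/
theorem support_subset (hf : Facts vals f) (h1 : f 1 = 1) {M : List ℕ} (hM1 : 1 ∈ M)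
    (hprime : ∀ p < 2 + vals.sum, p.Prime → (∃ v ∈ vals, v % Nat.totient p = 0 ∧ (1 + v) % p = 0) → p ∈ M)
    {ext : List (List (ℕ × ℕ × ℕ) × ℕ)}
    (hext : ∀ e ∈ ext, wf [1] e.1 = true ∧ e.2 ∈ e.1.map Prod.fst ∧
      run vals (fun a => !a.any fun x => x.1 == e.2) e.1 [(1, 1)] = true)
    (hclose : ∀ p ∈ M, ∀ q ∈ M, p * q ∈ M ∨ p * q ∈ ext.map Prod.snd ∨
      ∃ r ∈ M, r ≠ 1 ∧ (p * q) % r = 0 ∧ (p * q) / r ∉ M) :
    ∀ m, f m ≠ 0 → m ∈ M := by
  intro m
  induction m using Nat.strong_induction_on with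
  | _ m ih =>
  intro hm
  have hm0 : m ≠ 0 := fun e => hm (e ▸ hf.ne_zero)
  rcases eq_or_ne m 1 with rfl | hm1
  · exact hM1
  set p := m.minFac with hp
  have hpp : p.Prime := Nat.minFac_prime hm1
  obtain ⟨q, hq⟩ : p ∣ m := Nat.minFac_dvd m
  rcases eq_or_ne q 1 with rfl | hq1
  · rw [mul_one] at hq
    have h := hf.frob m hm
    rw [hq, hpp.sum_divisors, h1] at h
    refine hq ▸ hprime p ?_ hpp ⟨f p, hf.val p (hq ▸ hm), Nat.mod_eq_zero_of_dvd (hf.tot p (hq ▸ hm)),
      Nat.mod_eq_zero_of_dvd (by rwa [add_comm] at h)⟩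
    have := List.le_sum_of_mem (hf.val p (hq ▸ hm))
    have := Nat.le_of_dvd (by omega) h
    omega
  have hq0 : 0 < q := by
    rcases Nat.eq_zero_or_pos q with e | e
    · rw [e, mul_zero] at hq; exact absurd hq hm0
    · exact e
  have hpM : p ∈ M := ih p (by rw [hq]; exact lt_mul_of_one_lt_right hpp.pos (by omega)) (hf.closed m p hm (hq ▸ dvd_mul_right p q))
  have hqM : q ∈ M := ih q (by rw [hq]; exact lt_mul_of_one_lt_left (by omega) hpp.one_lt) (hf.closed m q hm (hq ▸ dvd_mul_left q p))
  rcases hclose p hpM q hqM with h | h | ⟨r, hr, hr1, hrd, hrn⟩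
  · rwa [hq]
  · exfalso
    obtain ⟨e, he, hem⟩ := List.mem_map.mp h
    obtain ⟨hwf, hin, hrun⟩ := hext e he
    obtain ⟨P', -, hP', hleaf⟩ := run_sound hf e.1 [1] (List.nodup_singleton 1) hwf
      (by simpa [table, h1] using hrun)
    simp only [Bool.not_eq_true', List.any_eq_false] at hleaf
    have hmem : m ∈ P'.toFinset := by
      rw [hP', Finset.mem_union, List.mem_toFinset, List.mem_toFinset]
      exact Or.inr (by rw [hq, ← hem]; exact hin)
    refine hleaf (m, f m) ?_ (by simp [hem, hq])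
    exact List.mem_map.mpr ⟨m, List.mem_filter.mpr ⟨List.mem_toFinset.mp hmem, by simpa using hm⟩, rfl⟩
  · exfalso
    rw [← hq] at hrd hrn
    have hrm : r ∣ m := Nat.dvd_of_mod_eq_zero hrd
    have hr2 : 2 ≤ r := by
      rcases r with _ | _ | r
      · exact absurd (Nat.eq_zero_of_zero_dvd hrm) hm0
      · exact absurd rfl hr1
      · omega
    exact hrn (ih (m / r) (Nat.div_lt_self (Nat.pos_of_ne_zero hm0) hr2) (hf.closed m _ hm (Nat.div_dvd_of_dvd hrm)))

/-- The leaf test: the table either misses a value, or violates divisibility, or is the target. -/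
def good (vals D : List ℕ) (target : List (ℕ × ℕ)) (a : List (ℕ × ℕ)) : Bool :=
  !(vals.all fun v => a.any fun x => x.2 == v) || (a.any fun x => (a.map Prod.snd).sum % x.1 != 0) ||
    (D.any fun d => (a.map Prod.snd).sum % d == 0 && sumDiv a d % d != 0) || a.reverse == target

variable {G : Type*} [Group G] [Finite G]

/-- The number of elements of order `m`. -/
noncomputable def cnt (G : Type*) [Group G] (m : ℕ) : ℕ := Nat.card {g : G // orderOf g = m}

theorem cnt_ne_zero {m : ℕ} : cnt G m ≠ 0 ↔ m ∈ Set.range (orderOf : G → ℕ) := by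
  rw [cnt, ← pos_iff_ne_zero, Nat.card_pos_iff]
  exact ⟨fun ⟨⟨g⟩, _⟩ => ⟨g.1, g.2⟩, fun ⟨g, hg⟩ => ⟨⟨⟨g, hg⟩⟩, inferInstance⟩⟩

theorem cnt_one : cnt G 1 = 1 := by
  rw [cnt, Nat.card_eq_one_iff_unique]
  exact ⟨⟨fun a b => Subtype.ext ((orderOf_eq_one_iff.mp a.2).trans (orderOf_eq_one_iff.mp b.2).symm)⟩, ⟨⟨1, orderOf_one⟩⟩⟩

theorem sum_cnt_divisors {d : ℕ} (hd : d ≠ 0) : ∑ e ∈ d.divisors, cnt G e = Nat.card {g : G // g ^ d = 1} := by
  classical
  haveI := Fintype.ofFinite G
  rw [Nat.card_eq_fintype_card, Fintype.card_subtype,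
    Finset.card_eq_sum_card_fiberwise (f := fun g => orderOf g) (t := d.divisors) fun g hg => by
      simp only [Finset.coe_filter, Finset.mem_univ, true_and, Set.mem_setOf_eq] at hg
      simp [orderOf_dvd_of_pow_eq_one hg, hd]]
  refine Finset.sum_congr rfl fun e he => ?_
  rw [cnt, Nat.card_eq_fintype_card, Fintype.card_subtype]
  congr 1
  ext g
  simp only [Finset.mem_filter, Finset.mem_univ, true_and]
  exact ⟨fun h => ⟨orderOf_dvd_iff_pow_eq_one.mp (h ▸ Nat.dvd_of_mem_divisors he), h⟩, fun h => h.2⟩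

theorem totient_dvd_cnt (m : ℕ) : Nat.totient m ∣ cnt G m := by
  classical
  haveI := Fintype.ofFinite G
  rw [cnt, Nat.card_eq_fintype_card, Fintype.card_subtype]
  refine CfsgLib.totient_dvd_card_of_generators _ (fun g hg => ?_) fun g hg g' hz => ?_
  · simp only [Finset.mem_filter, Finset.mem_univ, true_and] at hg
    exact dvd_of_eq hg.symm
  · simp only [Finset.mem_filter, Finset.mem_univ, true_and] at hg ⊢
    rw [← Nat.card_zpowers, hz, Nat.card_zpowers, hg]

theorem facts {vals : List ℕ}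
    (h : ((fun m : ℕ => cnt G m) '' Set.range (orderOf : G → ℕ)) ⊆ {v | v ∈ vals}) : Facts vals (cnt G) where
  val m hm := h ⟨m, cnt_ne_zero.mp hm, rfl⟩
  tot m _ := totient_dvd_cnt m
  closed m d hm hd := by
    obtain ⟨g, hg⟩ := cnt_ne_zero.mp hm
    have hm0 : m ≠ 0 := fun e => by rw [e] at hg; exact (orderOf_pos g).ne' hg
    exact cnt_ne_zero.mpr ⟨g ^ (orderOf g / d), by rw [orderOf_pow_orderOf_div (by omega) (hg ▸ hd)]⟩
  frob m hm := by
    obtain ⟨g, hg⟩ := cnt_ne_zero.mp hm
    rw [sum_cnt_divisors (fun e => by rw [e] at hg; exact (orderOf_pos g).ne' hg)]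
    have := CfsgLib.frobenius_solutions (G := G) m
    rwa [Nat.gcd_eq_left (hg ▸ orderOf_dvd_natCard g)] at this
  ne_zero := by
    by_contra h0
    obtain ⟨g, hg⟩ := cnt_ne_zero.mp h0
    exact (orderOf_pos g).ne' hg

/-- The conclusion of a successful search. -/
theorem conclude {vals D M : List ℕ} {target : List (ℕ × ℕ)} {L : List (ℕ × ℕ × ℕ)}
    (h : ((fun m : ℕ => cnt G m) '' Set.range (orderOf : G → ℕ)) = {v | v ∈ vals})
    (hsupp : ∀ m, cnt G m ≠ 0 → m ∈ M) (hL : wf [1] L = true) (hLM : ∀ m ∈ M, m = 1 ∨ m ∈ L.map Prod.fst)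
    (hrun : run vals (good vals D target) L [(1, 1)] = true) :
    Nat.card G = (target.map Prod.snd).sum ∧ ∀ m, cnt G m ≠ 0 → (m, cnt G m) ∈ target := by
  classical
  haveI := Fintype.ofFinite G
  have hf := facts (G := G) (vals := vals) h.subset
  obtain ⟨P, hPn, hP, hleaf⟩ := run_sound hf L [1] (List.nodup_singleton 1) hL
    (by simpa [table, cnt_one] using hrun)
  have hmemP : ∀ m, cnt G m ≠ 0 → m ∈ P := fun m hm => by
    rw [← List.mem_toFinset, hP]
    rcases hLM m (hsupp m hm) with rfl | h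
    · simp
    · exact Finset.mem_union_right _ (List.mem_toFinset.mpr h)
  have hmem : ∀ m, cnt G m ≠ 0 → (m, cnt G m) ∈ table (cnt G) P := fun m hm =>
    List.mem_map.mpr ⟨m, List.mem_filter.mpr ⟨hmemP m hm, by simpa using hm⟩, rfl⟩
  have htot : ((table (cnt G) P).map Prod.snd).sum = Nat.card G := by
    rw [sum_table P hPn, Nat.card_eq_fintype_card, ← Finset.card_univ,
      Finset.card_eq_sum_card_fiberwise (f := fun g : G => orderOf g) (t := P.toFinset) fun g _ =>
        List.mem_toFinset.mpr (hmemP _ (cnt_ne_zero.mpr ⟨g, rfl⟩))]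
    refine Finset.sum_congr rfl fun e _ => ?_
    rw [cnt, Nat.card_eq_fintype_card, Fintype.card_subtype]
  have hdiv : ∀ d : ℕ, d ∣ Nat.card G → d ∣ sumDiv (table (cnt G) P) d := fun d hd => by
    have hd0 : d ≠ 0 := fun e => Nat.card_pos.ne' (Nat.eq_zero_of_zero_dvd (e ▸ hd))
    rw [sumDiv, table_filter, sum_table _ (hPn.filter _)]
    have h1 := CfsgLib.frobenius_solutions (G := G) d
    rw [Nat.gcd_eq_left hd, ← sum_cnt_divisors hd0] at h1
    convert h1 using 1
    rw [List.toFinset_filter]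
    apply Finset.sum_subset_zero_on_sdiff
    · intro e he
      simp only [Finset.mem_filter, List.mem_toFinset, beq_iff_eq] at he
      exact Nat.mem_divisors.mpr ⟨Nat.dvd_of_mod_eq_zero he.2, hd0⟩
    · intro e he
      simp only [Finset.mem_sdiff, Finset.mem_filter, List.mem_toFinset, beq_iff_eq, Nat.mem_divisors, not_and] at he
      by_contra hne
      exact he.2 (hmemP e hne) (Nat.mod_eq_zero_of_dvd he.1.1)
    · exact fun _ _ => rfl
  simp only [good, Bool.or_eq_true, Bool.not_eq_true', List.all_eq_false, List.any_eq_true, Bool.and_eq_true,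
    beq_iff_eq, bne_iff_ne, ne_eq, htot] at hleaf
  rcases hleaf with ((⟨v, hv, hv'⟩ | ⟨⟨m, v⟩, hm, hm'⟩) | ⟨d, -, hd1, hd2⟩) | hleaf
  · exfalso
    obtain ⟨m, hm, rfl⟩ : v ∈ (fun m : ℕ => cnt G m) '' Set.range (orderOf : G → ℕ) := by rw [h]; exact hv
    exact hv' ⟨_, hmem m (cnt_ne_zero.mpr hm), rfl⟩
  · exfalso
    obtain ⟨m', hm1, he⟩ := List.mem_map.mp hm
    obtain ⟨rfl, -⟩ := Prod.mk.inj he
    obtain ⟨g, hg⟩ := cnt_ne_zero.mp (by simpa using (List.mem_filter.mp hm1).2)
    exact hm' (Nat.mod_eq_zero_of_dvd (hg ▸ orderOf_dvd_natCard g))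
  · exact absurd (Nat.mod_eq_zero_of_dvd (hdiv d (Nat.dvd_of_mod_eq_zero hd1))) hd2
  · refine ⟨?_, fun m hm => ?_⟩
    · rw [← hleaf, List.map_reverse, List.sum_reverse, htot]
    · rw [← hleaf]; exact List.mem_reverse.mpr (hmem m hm)

end CfsgLib.SameOrderCounts
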