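import Cfsg.Agent.Lib.SameOrderCounts.Small
import Cfsg.Agent.Lib.SmallSimple.Order360
import Cfsg.Agent.S0494

/-!
Identifying the groups found by the searches.
-/

set_option autoImplicit false
set_option linter.style.haveILetI false

namespace CfsgLib.SameOrderCounts

variable {G : Type*} [Group G] [Finite G]

/-- An order outside the table does not occur; an order in it occurs as often as stated. -/
theorem orderOf_mem {target : List (ℕ × ℕ)} (h : ∀ m, cnt G m ≠ 0 → (m, cnt G m) ∈ target) (g : G) :
    orderOf g ∈ target.map Prod.fst :=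
  List.mem_map.mpr ⟨_, h _ (cnt_ne_zero.mpr ⟨g, rfl⟩), rfl⟩

theorem cnt_eq {target : List (ℕ × ℕ)} (h : ∀ m, cnt G m ≠ 0 → (m, cnt G m) ∈ target) {p v : ℕ} [Fact p.Prime]
    (hp : p ∣ Nat.card G) (huniq : ∀ e ∈ target, e.1 = p → e.2 = v) : cnt G p = v := by
  obtain ⟨g, hg⟩ := exists_prime_orderOf_dvd_card' (G := G) p hp
  exact huniq _ (h p (cnt_ne_zero.mpr ⟨g, hg⟩)) rfl

/-- The number of Sylow subgroups of prime order `p`. -/
theorem card_sylow_mul {p : ℕ} [hp : Fact p.Prime] (hP : ∀ P : Sylow p G, Nat.card P = p) :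
    Nat.card (Sylow p G) * (p - 1) = cnt G p := by
  classical
  haveI := Fintype.ofFinite G
  haveI : Fintype (Sylow p G) := Fintype.ofFinite _
  let S : Sylow p G → Finset G := fun P => Finset.univ.filter fun g => g ∈ (P : Subgroup G) ∧ g ≠ 1
  have hS : ∀ P, (S P).card = p - 1 := fun P => by
    have : S P = (Finset.univ.filter fun g => g ∈ (P : Subgroup G)).erase 1 := by ext g; simp [S, and_comm]
    rw [this, Finset.card_erase_of_mem (by simp), ← Fintype.card_subtype, ← Nat.card_eq_fintype_card]
    exact congrArg (· - 1) (hP P)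
  have hord : ∀ (P : Sylow p G) (g : G), g ∈ (P : Subgroup G) → g ≠ 1 → orderOf g = p := fun P g hg hg1 => by
    have h := orderOf_dvd_natCard (⟨g, hg⟩ : (P : Subgroup G))
    rw [hP P, ← Subgroup.orderOf_coe, Nat.dvd_prime hp.out] at h
    exact h.resolve_left fun e => hg1 (orderOf_eq_one_iff.mp e)
  have huniq : ∀ (P : Sylow p G) (g : G), g ∈ (P : Subgroup G) → g ≠ 1 → (P : Subgroup G) = Subgroup.zpowers g :=
    fun P g hg hg1 => (Subgroup.eq_of_le_of_card_ge (Subgroup.zpowers_le.mpr hg)
      (by rw [Nat.card_zpowers, hord P g hg hg1]; exact (hP P).le)).symm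
  have hU : (Finset.univ.biUnion S) = Finset.univ.filter fun g => orderOf g = p := by
    ext g
    simp only [Finset.mem_biUnion, Finset.mem_univ, true_and, Finset.mem_filter, S]
    refine ⟨fun ⟨P, h1, h2⟩ => hord P g h1 h2, fun hg => ?_⟩
    obtain ⟨P, hP'⟩ := (IsPGroup.of_card (p := p) (n := 1) (G := Subgroup.zpowers g)
      (by rw [Nat.card_zpowers, hg, pow_one])).exists_le_sylow
    exact ⟨P, hP' (Subgroup.mem_zpowers g), fun e => hp.out.one_lt.ne (by rw [← hg, e, orderOf_one])⟩
  have hdis : (↑(Finset.univ : Finset (Sylow p G)) : Set (Sylow p G)).PairwiseDisjoint S := fun P _ Q _ hne => by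
    rw [Function.onFun, Finset.disjoint_left]
    intro g h1 h2
    simp only [S, Finset.mem_filter, Finset.mem_univ, true_and] at h1 h2
    exact hne (Sylow.ext ((huniq P g h1.1 h1.2).trans (huniq Q g h2.1 h2.2).symm))
  rw [cnt, Nat.card_eq_fintype_card (α := {g : G // orderOf g = p}), Fintype.card_subtype, ← hU,
    Finset.card_biUnion hdis, Finset.sum_congr rfl (fun P _ => hS P), Finset.sum_const, Finset.card_univ,
    smul_eq_mul, Nat.card_eq_fintype_card]

/-- A normal subgroup with order divisible by `p` contains all elements of order `p`, for a Sylow subgroup of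
order `p`. -/
theorem cnt_lt_card {p : ℕ} [hp : Fact p.Prime] (hP : ∀ P : Sylow p G, Nat.card P = p) {N : Subgroup G} [N.Normal]
    (hN : p ∣ Nat.card N) : ∀ g : G, orderOf g = p → g ∈ N := by
  intro g hg
  obtain ⟨x, hx⟩ := exists_prime_orderOf_dvd_card' (G := N) p hN
  obtain ⟨P, hPg⟩ := (IsPGroup.of_card (p := p) (n := 1) (G := Subgroup.zpowers g)
    (by rw [Nat.card_zpowers, hg, pow_one])).exists_le_sylow
  obtain ⟨Q, hQx⟩ := (IsPGroup.of_card (p := p) (n := 1) (G := Subgroup.zpowers (x : G))
    (by rw [Nat.card_zpowers, Subgroup.orderOf_coe, hx, pow_one])).exists_le_sylow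
  have hQN : (Q : Subgroup G) ≤ N := by
    rw [← Subgroup.eq_of_le_of_card_ge hQx (by rw [Nat.card_zpowers, Subgroup.orderOf_coe, hx]; exact (hP Q).le)]
    exact Subgroup.zpowers_le.mpr x.2
  obtain ⟨c, hc⟩ := MulAction.exists_smul_eq G Q P
  have h := hPg (Subgroup.mem_zpowers g)
  rw [← hc, Sylow.coe_subgroup_smul] at h
  obtain ⟨y, hy, rfl⟩ := Subgroup.mem_map.mp h
  exact (inferInstance : N.Normal).conj_mem y (hQN hy) c

/-- An element of prime order `p` acts without fixed points on a normal subgroup of order prime to `p`,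
when no order `p * q` occurs. -/
theorem card_normal_mod {p : ℕ} [hp : Fact p.Prime] {N : Subgroup G} [hN : N.Normal] (hpN : ¬ p ∣ Nat.card N)
    {g : G} (hg : orderOf g = p) (hord : ∀ a : G, p ∣ orderOf a → orderOf a = p) : Nat.card N ≡ 1 [MOD p] := by
  let P := Subgroup.zpowers g
  have hPp : IsPGroup p P := IsPGroup.of_card (n := 1) (by rw [Nat.card_zpowers, hg, pow_one])
  letI : MulAction P N :=
    { smul := fun v a => ⟨(v : G) * a * (v : G)⁻¹, hN.conj_mem a a.2 v⟩
      one_smul := fun a => Subtype.ext (by show ((1 : P) : G) * a * ((1 : P) : G)⁻¹ = a; simp)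
      mul_smul := fun v w a => Subtype.ext (by
        show ((v * w : P) : G) * a * ((v * w : P) : G)⁻¹ = v * (w * a * (w : G)⁻¹) * (v : G)⁻¹
        simp [mul_assoc]) }
  have h := hPp.card_modEq_card_fixedPoints N
  have hfix : MulAction.fixedPoints P N = {1} := by
    ext a
    refine ⟨fun ha => ?_, fun ha v => ?_⟩
    · by_contra ha1
      have e : g * (a : G) * g⁻¹ = a := congrArg Subtype.val (ha ⟨g, Subgroup.mem_zpowers g⟩)
      have hc : Commute g (a : G) := mul_inv_eq_iff_eq_mul.mp e
      have hcop : (orderOf g).Coprime (orderOf (a : G)) := by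
        rw [hg, hp.out.coprime_iff_not_dvd]
        exact fun h => hpN (h.trans (by rw [Subgroup.orderOf_coe]; exact orderOf_dvd_natCard a))
      have := hord (g * a) (by rw [hc.orderOf_mul_eq_mul_orderOf_of_coprime hcop, hg]; exact dvd_mul_right _ _)
      rw [hc.orderOf_mul_eq_mul_orderOf_of_coprime hcop, hg, Nat.mul_eq_left hp.out.ne_zero] at this
      exact ha1 (Subtype.ext (orderOf_eq_one_iff.mp this))
    · rw [Set.mem_singleton_iff] at ha
      subst ha
      exact Subtype.ext (by show (v : G) * 1 * (v : G)⁻¹ = 1; simp)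
  rwa [hfix, Nat.card_coe_set_eq, Set.ncard_singleton] at h

/-- No normal subgroup of order `6` next to a fixed point free element of order `5`. -/
theorem no_six {N : Subgroup G} [hN : N.Normal] (hc : Nat.card N = 6) {g : G} (hg : orderOf g = 5)
    (hord : ∀ a : G, 5 ∣ orderOf a → orderOf a = 5) : False := by
  haveI : Fact (Nat.Prime 3) := ⟨Nat.prime_three⟩
  haveI : Fact (Nat.Prime 5) := ⟨by norm_num⟩
  obtain ⟨P⟩ : Nonempty (Sylow 3 N) := inferInstance
  have hPc : Nat.card P = 3 ^ 1 := SmallOrder.card_sylow_eq P (by rw [hc]; norm_num) (by rw [hc]; norm_num)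
  have hone : Nat.card (Sylow 3 N) = 1 := by
    have := SmallOrder.card_sylow_mem_filter P hPc (show Nat.card N = 3 ^ 1 * 2 by rw [hc]; norm_num) (by norm_num)
    rw [show (Nat.divisors 2).filter (fun d => d % 3 = 1) = {1} by decide +kernel, Finset.mem_singleton] at this
    exact this
  haveI : Subsingleton (Sylow 3 N) := (Nat.card_eq_one_iff_unique.mp hone).1
  haveI := Sylow.characteristic_of_subsingleton P
  haveI : ((P : Subgroup N).map N.subtype).Normal := inferInstance
  have h := card_normal_mod (p := 5) (N := (P : Subgroup N).map N.subtype)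
    (by rw [Subgroup.card_map_of_injective N.subtype_injective, hPc]; norm_num) hg hord
  rw [Subgroup.card_map_of_injective N.subtype_injective, hPc] at h
  exact absurd h (by decide)

theorem isSimple_of {N0 : ℕ} (hc : Nat.card G = N0) (h1 : 1 < N0)
    (h : ∀ N : Subgroup G, N.Normal → Nat.card N ≠ 1 → Nat.card N ≠ N0 → False) : IsSimpleGroup G := by
  haveI : Nontrivial G := Finite.one_lt_card_iff_nontrivial.mp (hc ▸ h1)
  refine ⟨fun N hN => ?_⟩
  by_contra hh
  rw [not_or] at hh
  exact h N hN (fun e => hh.1 (Subgroup.card_eq_one.mp e))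
    (fun e => hh.2 (Subgroup.eq_top_of_card_eq N (e.trans hc.symm)))

theorem iso_five (h : ((fun m : ℕ => cnt G m) '' Set.range (orderOf : G → ℕ)) = {v | v ∈ [1, 15, 20, 24]}) :
    Nonempty (G ≃* alternatingGroup (Fin 5)) := by
  haveI : Fact (Nat.Prime 3) := ⟨Nat.prime_three⟩
  haveI : Fact (Nat.Prime 5) := ⟨by norm_num⟩
  obtain ⟨hc, ht⟩ := targetFive h
  have hord : ∀ a : G, 5 ∣ orderOf a → orderOf a = 5 := fun a ha => by
    have := orderOf_mem ht a
    simp only [List.map_cons, List.map_nil, List.mem_cons, List.not_mem_nil, or_false] at this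
    rcases this with e | e | e | e <;> omega
  have hP5 : ∀ P : Sylow 5 G, Nat.card P = 5 := fun P =>
    (SmallOrder.card_sylow_eq P (k := 1) (by rw [hc]; norm_num) (by rw [hc]; norm_num)).trans (pow_one 5)
  have hP3 : ∀ P : Sylow 3 G, Nat.card P = 3 := fun P =>
    (SmallOrder.card_sylow_eq P (k := 1) (by rw [hc]; norm_num) (by rw [hc]; norm_num)).trans (pow_one 3)
  haveI := isSimple_of hc (by norm_num) fun N hN hN1 hN60 => by
    haveI := hN
    haveI : Fintype G := Fintype.ofFinite G
    classical
    have hdvd : Nat.card N ∣ 60 := hc ▸ Subgroup.card_subgroup_dvd_card N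
    have hmem : Nat.card N ∈ Nat.divisors 60 := Nat.mem_divisors.mpr ⟨hdvd, by norm_num⟩
    rw [show Nat.divisors 60 = {1, 2, 3, 4, 5, 6, 10, 12, 15, 20, 30, 60} by decide +kernel] at hmem
    simp only [Finset.mem_insert, Finset.mem_singleton] at hmem
    obtain ⟨g, hg⟩ := exists_prime_orderOf_dvd_card' (G := G) 5 (by rw [hc]; norm_num)
    by_cases h5 : 5 ∣ Nat.card N
    · have h5c : cnt G 5 = 24 := cnt_eq ht (by rw [hc]; norm_num) (by simp)
      have hle : 24 < Nat.card N := by
        rw [← h5c, cnt, Nat.card_eq_fintype_card, Fintype.card_subtype, Nat.card_eq_fintype_card, Fintype.card_subtype]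
        refine Finset.card_lt_card (Finset.ssubset_iff_of_subset (fun a ha => ?_) |>.mpr ⟨1, by simp, by simp⟩)
        simp only [Finset.mem_filter, Finset.mem_univ, true_and] at ha ⊢
        exact cnt_lt_card hP5 h5 a ha
      have h30 : Nat.card N = 30 := by omega
      have h3c : cnt G 3 = 20 := cnt_eq ht (by rw [hc]; norm_num) (by simp)
      have hle2 : 24 + 20 < Nat.card N := by
        rw [← h5c, ← h3c, cnt, cnt, Nat.card_eq_fintype_card, Fintype.card_subtype, Nat.card_eq_fintype_card,
          Fintype.card_subtype, ← Finset.card_union_of_disjoint (Finset.disjoint_filter.mpr fun a _ e => by omega),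
          Nat.card_eq_fintype_card, Fintype.card_subtype]
        refine Finset.card_lt_card (Finset.ssubset_iff_of_subset (fun a ha => ?_) |>.mpr ⟨1, by simp, by simp⟩)
        simp only [Finset.mem_union, Finset.mem_filter, Finset.mem_univ, true_and] at ha ⊢
        rcases ha with e | e
        · exact cnt_lt_card hP5 h5 a e
        · exact cnt_lt_card hP3 (by rw [h30]; norm_num) a e
      omega
    · have h6 := card_normal_mod h5 hg hord
      rw [Nat.ModEq] at h6
      exact no_six (show Nat.card N = 6 by omega) hg hord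
  exact Cfsg.Agent.S0494.result hc

theorem iso_six (h : ((fun m : ℕ => cnt G m) '' Set.range (orderOf : G → ℕ)) = {v | v ∈ [1, 45, 80, 90, 144]}) :
    Nonempty (G ≃* alternatingGroup (Fin 6)) := by
  haveI : Fact (Nat.Prime 3) := ⟨Nat.prime_three⟩
  haveI : Fact (Nat.Prime 5) := ⟨by norm_num⟩
  obtain ⟨hc, ht⟩ := targetSix h
  have hord : ∀ a : G, 5 ∣ orderOf a → orderOf a = 5 := fun a ha => by
    have := orderOf_mem ht a
    simp only [List.map_cons, List.map_nil, List.mem_cons, List.not_mem_nil, or_false] at this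
    rcases this with e | e | e | e | e <;> omega
  have hP5 : ∀ P : Sylow 5 G, Nat.card P = 5 := fun P =>
    (SmallOrder.card_sylow_eq P (k := 1) (by rw [hc]; norm_num) (by rw [hc]; norm_num)).trans (pow_one 5)
  have h5c : cnt G 5 = 144 := cnt_eq ht (by rw [hc]; norm_num) (by simp)
  have h3c : cnt G 3 = 80 := cnt_eq ht (by rw [hc]; norm_num) (by simp)
  haveI := isSimple_of hc (by norm_num) fun N hN hN1 hN360 => by
    haveI := hN
    haveI : Fintype G := Fintype.ofFinite G
    classical
    have hdvd : Nat.card N ∣ 360 := hc ▸ Subgroup.card_subgroup_dvd_card N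
    have hmem : Nat.card N ∈ Nat.divisors 360 := Nat.mem_divisors.mpr ⟨hdvd, by norm_num⟩
    rw [show Nat.divisors 360 = {1, 2, 3, 4, 5, 6, 8, 9, 10, 12, 15, 18, 20, 24, 30, 36, 40, 45, 60, 72, 90, 120, 180, 360}
      by decide +kernel] at hmem
    simp only [Finset.mem_insert, Finset.mem_singleton] at hmem
    obtain ⟨g, hg⟩ := exists_prime_orderOf_dvd_card' (G := G) 5 (by rw [hc]; norm_num)
    -- all elements of order `3` lie in `N` if its index is prime to `3`
    have h3mem : 9 ∣ Nat.card N → ∀ a : G, orderOf a = 3 → a ∈ N := fun h9 a ha => by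
      rw [← QuotientGroup.eq_one_iff, ← orderOf_eq_one_iff]
      refine Nat.eq_one_of_dvd_coprimes ?_ (orderOf_map_dvd (QuotientGroup.mk' N) a) (orderOf_dvd_natCard _)
      rw [ha, Nat.prime_three.coprime_iff_not_dvd]
      intro h3
      have h27 : 9 * 3 ∣ Nat.card N * Nat.card (G ⧸ N) := Nat.mul_dvd_mul h9 h3
      rw [mul_comm (Nat.card N), ← Subgroup.card_eq_card_quotient_mul_card_subgroup, hc] at h27
      norm_num at h27
    by_cases h5 : 5 ∣ Nat.card N
    · have hle : 144 < Nat.card N := by
        rw [← h5c, cnt, Nat.card_eq_fintype_card, Fintype.card_subtype, Nat.card_eq_fintype_card, Fintype.card_subtype]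
        refine Finset.card_lt_card (Finset.ssubset_iff_of_subset (fun a ha => ?_) |>.mpr ⟨1, by simp, by simp⟩)
        simp only [Finset.mem_filter, Finset.mem_univ, true_and] at ha ⊢
        exact cnt_lt_card hP5 h5 a ha
      have h180 : Nat.card N = 180 := by omega
      have hle2 : 144 + 80 < Nat.card N := by
        rw [← h5c, ← h3c, cnt, cnt, Nat.card_eq_fintype_card, Fintype.card_subtype, Nat.card_eq_fintype_card,
          Fintype.card_subtype, ← Finset.card_union_of_disjoint (Finset.disjoint_filter.mpr fun a _ e => by omega),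
          Nat.card_eq_fintype_card, Fintype.card_subtype]
        refine Finset.card_lt_card (Finset.ssubset_iff_of_subset (fun a ha => ?_) |>.mpr ⟨1, by simp, by simp⟩)
        simp only [Finset.mem_union, Finset.mem_filter, Finset.mem_univ, true_and] at ha ⊢
        rcases ha with e | e
        · exact cnt_lt_card hP5 h5 a e
        · exact h3mem (by rw [h180]; norm_num) a e
      omega
    · have h6 := card_normal_mod h5 hg hord
      rw [Nat.ModEq] at h6
      rcases (show Nat.card N = 6 ∨ Nat.card N = 36 by omega) with e | e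
      · exact no_six e hg hord
      · have hle : 80 ≤ Nat.card N := by
          rw [← h3c, cnt, Nat.card_eq_fintype_card, Fintype.card_subtype, Nat.card_eq_fintype_card, Fintype.card_subtype]
          refine Finset.card_le_card fun a ha => ?_
          simp only [Finset.mem_filter, Finset.mem_univ, true_and] at ha ⊢
          exact h3mem (by rw [e]; norm_num) a ha
        omega
  exact Order360.iso_A6 hc

theorem iso_four (h : ((fun m : ℕ => cnt G m) '' Set.range (orderOf : G → ℕ)) = {v | v ∈ [1, 3, 8]}) :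
    Nonempty (G ≃* alternatingGroup (Fin 4)) := by
  haveI : Fact (Nat.Prime 3) := ⟨Nat.prime_three⟩
  obtain ⟨hc, ht⟩ := targetFour h
  have hP3 : ∀ P : Sylow 3 G, Nat.card P = 3 := fun P =>
    (SmallOrder.card_sylow_eq P (k := 1) (by rw [hc]; norm_num) (by rw [hc]; norm_num)).trans (pow_one 3)
  have hn : Nat.card (Sylow 3 G) = 4 := by
    have h3c : cnt G 3 = 8 := cnt_eq ht (by rw [hc]; norm_num) (by simp)
    have := card_sylow_mul (p := 3) hP3
    omega
  haveI : Fintype (Sylow 3 G) := Fintype.ofFinite _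
  let e : Sylow 3 G ≃ Fin 4 := Fintype.equivFinOfCardEq (by rw [← Nat.card_eq_fintype_card, hn])
  let φ : G →* Equiv.Perm (Fin 4) := e.permCongrHom.toMonoidHom.comp (MulAction.toPermHom G (Sylow 3 G))
  have hinj : Function.Injective φ := by
    rw [injective_iff_map_eq_one]
    intro g hg
    have hfix : ∀ P : Sylow 3 G, g • P = P := fun P =>
      Equiv.Perm.ext_iff.mp (e.permCongrHom.injective (hg.trans e.permCongrHom.map_one.symm)) P
    have hgP : ∀ P : Sylow 3 G, g ∈ (P : Subgroup G) := fun P => by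
      have hm := Sylow.smul_eq_iff_mem_normalizer.mp (hfix P)
      have hNc := SmallOrder.card_normalizer_mul_card_sylow P
      rw [hn, hc] at hNc
      have hNP : (P : Subgroup G) = Subgroup.normalizer (P : Set G) :=
        Subgroup.eq_of_le_of_card_ge Subgroup.le_normalizer
          (show Nat.card (Subgroup.normalizer (P : Set G)) ≤ Nat.card P by rw [hP3]; omega)
      rw [hNP]; exact hm
    by_contra hg1
    haveI : Nontrivial (Sylow 3 G) := Finite.one_lt_card_iff_nontrivial.mp (by omega)
    obtain ⟨P, Q, hPQ⟩ := exists_pair_ne (Sylow 3 G)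
    have key : ∀ P : Sylow 3 G, Subgroup.zpowers g = (P : Subgroup G) := fun P => by
      refine Subgroup.eq_of_le_of_card_ge (Subgroup.zpowers_le.mpr (hgP P)) ?_
      have h := orderOf_dvd_natCard (⟨g, hgP P⟩ : (P : Subgroup G))
      rw [hP3 P, ← Subgroup.orderOf_coe, Nat.dvd_prime Nat.prime_three] at h
      rw [Nat.card_zpowers, h.resolve_left fun e => hg1 (orderOf_eq_one_iff.mp e)]
      exact (hP3 P).le
    exact hPQ (Sylow.ext ((key P).symm.trans (key Q)))
  have hrange : φ.range = alternatingGroup (Fin 4) := by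
    apply Equiv.Perm.eq_alternatingGroup_of_index_eq_two
    have h1 := φ.range.card_mul_index
    rw [← Nat.card_congr (MonoidHom.ofInjective hinj).toEquiv, hc, Nat.card_perm, Nat.card_fin,
      show Nat.factorial 4 = 24 from rfl] at h1
    omega
  exact ⟨(MonoidHom.ofInjective hinj).trans (MulEquiv.subgroupCongr hrange)⟩

/-- Orders are determined by finitely many powers. -/
theorem orderOf_eq_iff' {A : Type*} [Group A] [Finite A] (g : A) {m : ℕ} (hm : 0 < m) :
    orderOf g = m ↔ g ^ m = 1 ∧ ∀ d ∈ List.range m, d ≠ 0 → g ^ d ≠ 1 := by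
  constructor
  · rintro rfl
    exact ⟨pow_orderOf_eq_one g, fun d hd hd0 => pow_ne_one_of_lt_orderOf hd0 (List.mem_range.mp hd)⟩
  · rintro ⟨h1, h2⟩
    refine le_antisymm (orderOf_le_of_pow_eq_one hm h1) (not_lt.mp fun hlt => ?_)
    exact h2 _ (List.mem_range.mpr hlt) (orderOf_pos g).ne' (pow_orderOf_eq_one g)

/-- The image of the counting function of a group whose orders are listed. -/
theorem image_eq {A : Type*} [Group A] [Fintype A] [DecidableEq A] {target : List (ℕ × ℕ)}
    (h0 : ∀ e ∈ target, 0 < e.1 ∧ 0 < e.2)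
    (hall : ∀ g : A, ∃ e ∈ target, g ^ e.1 = 1 ∧ ∀ d ∈ List.range e.1, d ≠ 0 → g ^ d ≠ 1)
    (hcnt : ∀ e ∈ target, (Finset.univ.filter fun g : A => g ^ e.1 = 1 ∧ ∀ d ∈ List.range e.1, d ≠ 0 → g ^ d ≠ 1).card = e.2) :
    ((fun m : ℕ => cnt A m) '' Set.range (orderOf : A → ℕ)) = {v | v ∈ target.map Prod.snd} := by
  have hc : ∀ e ∈ target, cnt A e.1 = e.2 := fun e he => by
    rw [cnt, Nat.card_eq_fintype_card, Fintype.card_subtype, ← hcnt e he]
    congr 1
    ext g
    simp [orderOf_eq_iff' g (h0 e he).1]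
  ext v
  simp only [Set.mem_image, Set.mem_range, Set.mem_setOf_eq, List.mem_map]
  constructor
  · rintro ⟨m, ⟨g, rfl⟩, rfl⟩
    obtain ⟨e, he, hg⟩ := hall g
    exact ⟨e, he, by rw [(orderOf_eq_iff' g (h0 e he).1).mpr hg, hc e he]⟩
  · rintro ⟨e, he, rfl⟩
    obtain ⟨g, hg⟩ := cnt_ne_zero.mp (show cnt A e.1 ≠ 0 by rw [hc e he]; exact (h0 e he).2.ne')
    exact ⟨e.1, ⟨g, hg⟩, hc e he⟩

end CfsgLib.SameOrderCounts
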