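import Cfsg.Agent.Lib.SameOrderCounts.Search

/-!
The searches for the alternating groups of degree `4`, `5` and `6`.
-/

set_option autoImplicit false

namespace CfsgLib.SameOrderCounts

variable {G : Type*} [Group G] [Finite G]

/-- The candidate orders for degree `4`. -/
def candFour : List ℕ := [1, 2, 3, 4, 6]

theorem targetFour (h : ((fun m : ℕ => cnt G m) '' Set.range (orderOf : G → ℕ)) = {v | v ∈ [1, 3, 8]}) :
    Nat.card G = 12 ∧ ∀ m, cnt G m ≠ 0 → (m, cnt G m) ∈ [(1, 1), (2, 3), (3, 8)] :=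
  conclude (D := [3]) (M := candFour) (target := [(1, 1), (2, 3), (3, 8)]) (L := [(2, 1, 1), (3, 2, 1), (4, 2, 2), (6, 2, 3)]) h
    (support_subset (facts h.subset) cnt_one (M := candFour)
      (ext := [([(2, 1, 1), (4, 2, 2), (8, 4, 3)], 8), ([(3, 2, 1), (9, 6, 2)], 9), ([(2, 1, 1), (3, 2, 1), (4, 2, 2), (6, 2, 3), (12, 4, 5)], 12)])
      (by decide +kernel) (by decide +kernel) (by decide +kernel) (by decide +kernel))
    (by decide +kernel) (by decide +kernel) (by decide +kernel)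

/-- The candidate orders for degree `5`. -/
def candFive : List ℕ := [1, 2, 3, 4, 5, 6, 8, 9, 10, 12, 16, 18, 36]

theorem targetFive (h : ((fun m : ℕ => cnt G m) '' Set.range (orderOf : G → ℕ)) = {v | v ∈ [1, 15, 20, 24]}) :
    Nat.card G = 60 ∧ ∀ m, cnt G m ≠ 0 → (m, cnt G m) ∈ [(1, 1), (2, 15), (3, 20), (5, 24)] :=
  conclude (D := [15, 27, 16, 20, 7, 12]) (M := candFive) (target := [(1, 1), (2, 15), (3, 20), (5, 24)]) (L := [(2, 1, 1), (3, 2, 1), (4, 2, 2), (5, 4, 1), (6, 2, 3), (8, 4, 3), (9, 6, 2), (10, 4, 3), (12, 4, 5), (16, 8, 4), (18, 6, 5), (36, 12, 8)]) h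
    (support_subset (facts h.subset) cnt_one (M := candFive)
      (ext := [([(3, 2, 1), (5, 4, 1), (15, 8, 3)], 15), ([(2, 1, 1), (4, 2, 2), (5, 4, 1), (10, 4, 3), (20, 8, 5)], 20), ([(2, 1, 1), (3, 2, 1), (4, 2, 2), (6, 2, 3), (8, 4, 3), (12, 4, 5), (24, 8, 7)], 24), ([(5, 4, 1), (25, 20, 2)], 25), ([(3, 2, 1), (9, 6, 2), (27, 18, 3)], 27), ([(2, 1, 1), (4, 2, 2), (8, 4, 3), (16, 8, 4), (32, 16, 5)], 32)])
      (by decide +kernel) (by decide +kernel) (by decide +kernel) (by decide +kernel))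
    (by decide +kernel) (by decide +kernel) (by decide +kernel)

/-- The candidate orders for degree `6`. -/
def candSix : List ℕ := [1, 2, 3, 4, 5, 6, 7, 8, 9, 10, 12, 14, 18, 20, 21, 24, 25, 36, 40, 42, 50, 72, 100]

theorem targetSix (h : ((fun m : ℕ => cnt G m) '' Set.range (orderOf : G → ℕ)) = {v | v ∈ [1, 45, 80, 90, 144]}) :
    Nat.card G = 360 ∧ ∀ m, cnt G m ≠ 0 → (m, cnt G m) ∈ [(1, 1), (2, 45), (3, 80), (4, 90), (5, 144)] :=
  conclude (D := [60, 42, 11, 15, 4, 13, 162, 19, 7, 17, 23, 25]) (M := candSix) (target := [(1, 1), (2, 45), (3, 80), (4, 90), (5, 144)]) (L := [(2, 1, 1), (3, 2, 1), (4, 2, 2), (5, 4, 1), (6, 2, 3), (7, 6, 1), (8, 4, 3), (9, 6, 2), (10, 4, 3), (12, 4, 5), (14, 6, 3), (18, 6, 5), (20, 8, 5), (21, 12, 3), (24, 8, 7), (25, 20, 2), (36, 12, 8), (40, 16, 7), (42, 12, 7), (50, 20, 5), (72, 24, 11), (100, 40, 8)]) h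
    (support_subset (facts h.subset) cnt_one (M := candSix)
      (ext := [([(3, 2, 1), (5, 4, 1), (15, 8, 3)], 15), ([(2, 1, 1), (4, 2, 2), (8, 4, 3), (16, 8, 4)], 16), ([(3, 2, 1), (9, 6, 2), (27, 18, 3)], 27), ([(2, 1, 1), (4, 2, 2), (7, 6, 1), (14, 6, 3), (28, 12, 5)], 28), ([(5, 4, 1), (7, 6, 1), (35, 24, 3)], 35), ([(7, 6, 1), (49, 42, 2)], 49), ([(3, 2, 1), (7, 6, 1), (9, 6, 2), (21, 12, 3), (63, 36, 5)], 63), ([(5, 4, 1), (25, 20, 2), (125, 100, 3)], 125), ([(2, 1, 1), (4, 2, 2), (5, 4, 1), (8, 4, 3), (10, 4, 3), (20, 8, 5), (25, 20, 2), (40, 16, 7), (50, 20, 5), (100, 40, 8), (200, 80, 11)], 200)])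
      (by decide +kernel) (by decide +kernel) (by decide +kernel) (by decide +kernel))
    (by decide +kernel) (by decide +kernel) (by decide +kernel)

end CfsgLib.SameOrderCounts
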